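import Cfsg.Agent.CubicAmalgam.Apply
import Cfsg.Agent.ThompsonWielandt.Perm
import Cfsg.Agent.PByCyclic.Basic

/-!
Point stabilisers of primitive groups with a suborbit of length 3.
-/

set_option autoImplicit false

namespace CfsgLib.CubicAmalgam

open Subgroup CfsgLib.ThompsonWielandt

variable {G : Type*} [Group G] [Finite G]

/-- The five possible groups. -/
def Five (M : Subgroup G) : Prop :=
  Nonempty (M ≃* Multiplicative (ZMod 3)) ∨ Nonempty (M ≃* Equiv.Perm (Fin 3)) ∨
    Nonempty (M ≃* DihedralGroup 6) ∨ Nonempty (M ≃* Equiv.Perm (Fin 4)) ∨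
    Nonempty (M ≃* Equiv.Perm (Fin 4) × Multiplicative (ZMod 2))

theorem le_of_normal_two {D M C : Subgroup G} (hDM : D ≤ M) (hD : IsPGroup 2 D) (h3 : D.relIndex M = 3)
    (hCM : C ≤ M) (hn : M ≤ normalizer (C : Set G)) (hC : IsPGroup 2 C) : C ≤ D := by
  haveI : Fact (Nat.Prime 2) := ⟨Nat.prime_two⟩
  have hp : IsPGroup 2 (D.subgroupOf M) := hD.of_equiv (subgroupOfEquivOfLe hDM).symm
  have hn2 : ¬ 2 ∣ (D.subgroupOf M).index := by
    show ¬ 2 ∣ D.relIndex M
    rw [h3]
    norm_num
  haveI : (C.subgroupOf M).Normal := normal_subgroupOf_of_le_normalizer hn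
  have := IsPGroup.le_sylow_of_normal (hC.of_equiv (subgroupOfEquivOfLe hCM).symm) (hp.toSylow hn2)
  exact fun x hx => mem_subgroupOf.1 (this (show (⟨x, hCM hx⟩ : M) ∈ C.subgroupOf M from hx))

theorem le_normalizer_of_normal_two {D M : Subgroup G} (hDM : D ≤ M) (h3 : D.relIndex M = 3) {C : Subgroup G}
    (hCM : C ≤ M) (hn : M ≤ normalizer (C : Set G)) (hC : IsPGroup 2 C) (hD : IsPGroup 2 D)
    (hcard : Nat.card D ≤ Nat.card C) : M ≤ normalizer (D : Set G) :=
  Subgroup.eq_of_le_of_card_ge (le_of_normal_two hDM hD h3 hCM hn hC) hcard ▸ hn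

theorem cj_normalizer {M X : Subgroup G} (h : M ≤ normalizer (X : Set G)) (g : G) :
    cj g M ≤ normalizer (cj g X : Set G) :=
  (map_mono h).trans (le_normalizer_map _)

theorem card_cj (g : G) (X : Subgroup G) : Nat.card (cj g X) = Nat.card X :=
  card_map_of_injective (MulAut.conj g).injective

theorem isPGroup_of_odd_trivial {D : Subgroup G} (h : ∀ d ∈ D, ¬ 2 ∣ orderOf d → d = 1) :
    IsPGroup 2 D := by
  intro d
  obtain ⟨k, m, hm, e⟩ := Nat.exists_eq_two_pow_mul_odd (orderOf_pos (d : G)).ne'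
  refine ⟨k, ?_⟩
  have h1 : ((d : G) ^ 2 ^ k) ^ m = 1 := by rw [← pow_mul, ← e, pow_orderOf_eq_one]
  have h2 : ¬ 2 ∣ orderOf ((d : G) ^ 2 ^ k) := fun hd => by
    have := hd.trans (orderOf_dvd_of_pow_eq_one h1)
    exact hm.not_two_dvd_nat this
  exact Subtype.ext (by rw [Subgroup.coe_pow]; exact h _ (pow_mem d.2 _) h2)

theorem pair {M N : Subgroup G} (g : G) (hMN : cj g M = N)
    (hcore : ∀ X : Subgroup G, X ≤ M ⊓ N → M ≤ normalizer (X : Set G) → N ≤ normalizer (X : Set G) → X = ⊥)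
    (h3M : (M ⊓ N).relIndex M = 3) (h3N : (M ⊓ N).relIndex N = 3)
    (hsqM : ∀ d ∈ M ⊓ N, d * d ∈ one M N) (hsqN : ∀ d ∈ M ⊓ N, d * d ∈ one N M)
    (hφ : ∃ φ : M →* Equiv.Perm (Fin 3), φ.ker = (one M N).subgroupOf M) :
    Five M ∧ ∃ k : ℕ, k ≤ 4 ∧ Nat.card M = 2 ^ k * 3 := by
  haveI : Fact (Nat.Prime 2) := ⟨Nat.prime_two⟩
  haveI : Fact (Nat.Prime 3) := ⟨Nat.prime_three⟩
  set D := M ⊓ N with hD
  set E := one M N with hE
  set E' := one N M with hE'
  have hDM : D ≤ M := inf_le_left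
  have hDN : D ≤ N := inf_le_right
  have hED : E ≤ D := core_le_left _ _
  have hE'D : E' ≤ D := (core_le_left _ _).trans (le_of_eq (inf_comm N M))
  have hEn : M ≤ normalizer (E : Set G) := le_normalizer_core _ _
  have hE'n : N ≤ normalizer (E' : Set G) := le_normalizer_core _ _
  -- `D` is a 2-group
  have hD2 : IsPGroup 2 D := by
    set X := closure {d | d ∈ D ∧ ¬ 2 ∣ orderOf d} with hX
    have hroot : ∀ (F : Subgroup G), (∀ d ∈ D, d * d ∈ F) → ∀ d ∈ D, ¬ 2 ∣ orderOf d → d ∈ F := by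
      intro F hF d hd ho
      obtain ⟨k, hk⟩ : ∃ k, orderOf d = 2 * k + 1 := ⟨orderOf d / 2, by omega⟩
      have h1 : d = (d * d) ^ (k + 1) := by
        rw [← pow_two, ← pow_mul, show 2 * (k + 1) = orderOf d + 1 by omega, pow_succ, pow_orderOf_eq_one,
          one_mul]
      rw [h1]
      exact pow_mem (hF d hd) _
    have hn : ∀ (L F : Subgroup G), F ≤ D → L ≤ normalizer (F : Set G) → (∀ d ∈ D, d * d ∈ F) →
        L ≤ normalizer (X : Set G) := by
      intro L F hFD hLn hF l hl
      refine mem_normalizer_of_le fun x hx => ?_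
      have hle : X ≤ cj l⁻¹ X := (closure_le _).2 fun d ⟨hd, ho⟩ => by
        rw [SetLike.mem_coe, mem_cj, inv_inv]
        refine subset_closure ⟨hFD (conj_mem_of_normalizer (hLn hl) (hroot F hF d hd ho)), ?_⟩
        rwa [show l * d * l⁻¹ = MulAut.conj l d from rfl, MulEquiv.orderOf_eq]
      have := mem_cj.1 (hle hx)
      rwa [inv_inv] at this
    have hbot : X = ⊥ := hcore X ((closure_le _).2 fun d hd => hd.1) (hn M E hED hEn hsqM)
      (hn N E' hE'D hE'n hsqN)
    exact isPGroup_of_odd_trivial fun d hd ho => mem_bot.1 (hbot ▸ subset_closure ⟨hd, ho⟩)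
  have hMcard : Nat.card M = 3 * Nat.card D := by
    rw [← Data.card_mul_relIndex hDM, h3M, mul_comm]
  obtain ⟨n, hn⟩ := IsPGroup.iff_card.1 hD2
  -- index at most two
  have hidx : ∀ F : Subgroup G, F ≤ D → (∀ d ∈ D, d * d ∈ F) → M ≤ normalizer (F : Set G) ∨
      N ≤ normalizer (F : Set G) → F.relIndex D ≠ 0 := fun F _ _ _ => index_ne_zero_of_finite
  obtain ⟨φ, hker⟩ := hφ
  have hE6 : E.relIndex M ∣ 6 := by
    have h1 := card_subgroup_dvd_card φ.range
    rw [← index_ker, hker, Nat.card_perm, Nat.card_fin] at h1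
    exact h1
  have hmulE := relIndex_mul_relIndex E D M hED hDM
  rw [h3M] at hmulE
  by_cases hDn : M ≤ normalizer (D : Set G)
  · -- then `D` is trivial
    obtain ⟨n', hn'⟩ : ∃ C : Subgroup G, C = cj g D := ⟨_, rfl⟩
    have hN' : N ≤ normalizer (D : Set G) :=
      le_normalizer_of_normal_two hDN h3N (hn' ▸ hMN ▸ cj_mono hDM) (hn' ▸ hMN ▸ cj_normalizer hDn g)
        (hn' ▸ hD2.map _) hD2 (le_of_eq (by rw [hn', card_cj]))
    have hbot : D = ⊥ := hcore D le_rfl hDn hN'
    have hc : Nat.card M = 3 := by rw [hMcard, hbot, card_bot]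
    refine ⟨Or.inl ⟨mulEquivOfPrimeCardEq (p := 3) hc ?_⟩, 0, by norm_num, by rw [hc]; rfl⟩
    rw [Nat.card_congr Multiplicative.toAdd, Nat.card_zmod]
  have hEne : E ≠ D := fun h => hDn (h ▸ hEn)
  have hEidx : E.relIndex D = 2 := by
    have h1 : E.relIndex D ≠ 1 := fun h => hEne (le_antisymm hED (relIndex_eq_one.1 h))
    have h2 : E.relIndex D * 3 ∣ 6 := hmulE ▸ hE6
    have h3 := Nat.le_of_dvd (by norm_num) h2
    have h4 : E.relIndex D ≠ 0 := index_ne_zero_of_finite
    omega
  have hcE : 2 * Nat.card E = Nat.card D := by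
    rw [← Data.card_mul_relIndex hED, hEidx, mul_comm]
  -- an element carrying `(M, D, E)` to `(N, D, E')`
  obtain ⟨h, hhM, hhD⟩ : ∃ h : G, cj h M = N ∧ cj h D = D := by
    have hDgN : cj g D ≤ N := hMN ▸ cj_mono hDM
    have hn2 : ¬ 2 ∣ (D.subgroupOf N).index := by
      show ¬ 2 ∣ D.relIndex N
      rw [h3N]
      norm_num
    have hn2' : ¬ 2 ∣ ((cj g D).subgroupOf N).index := by
      show ¬ 2 ∣ (cj g D).relIndex N
      rw [← hMN]
      unfold cj
      rw [relIndex_map_map_of_injective _ _ (MulAut.conj g).injective, h3M]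
      norm_num
    let S1 : Sylow 2 N := ((hD2.map _).of_equiv (subgroupOfEquivOfLe hDgN).symm).toSylow hn2'
    let S2 : Sylow 2 N := (hD2.of_equiv (subgroupOfEquivOfLe hDN).symm).toSylow hn2
    obtain ⟨u, hu⟩ := MulAction.exists_smul_eq N S1 S2
    refine ⟨(u : G) * g, by rw [cj_mul, hMN, cj_eq_self (le_normalizer u.2)], ?_⟩
    refine Subgroup.eq_of_le_of_card_ge ?_ (le_of_eq (card_cj _ _).symm)
    intro x hx
    rw [mem_cj] at hx
    have hy : (u : G)⁻¹ * x * u ∈ cj g D := mem_cj.2 (by convert hx using 1; group)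
    set y : N := ⟨_, hDgN hy⟩
    have h1 : u * y * u⁻¹ ∈ (S2 : Subgroup N) := by
      rw [← hu, Sylow.coe_subgroup_smul]
      exact ⟨y, (hy : y ∈ (cj g D).subgroupOf N), rfl⟩
    have h2 : ((u * y * u⁻¹ : N) : G) ∈ D := h1
    simpa [y, mul_assoc] using h2
  have hE'idx : E'.relIndex D = 2 ∧ cj h E = E' := by
    have hle : cj h E ≤ E' := by
      refine le_one (hhM ▸ cj_mono (hED.trans hDM)) ((hhD ▸ cj_mono hED : cj h E ≤ D).trans hDM) ?_
      exact hhM ▸ cj_normalizer hEn h
    have hne : E' ≠ D := fun e => hDn <| by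
      have := cj_normalizer (e ▸ hE'n) h⁻¹
      rwa [← hhM, ← cj_mul, inv_mul_cancel, cj_one, ← hhD, ← cj_mul, inv_mul_cancel, cj_one] at this
    have h1 : E'.relIndex D ≠ 1 := fun e => hne (le_antisymm hE'D (relIndex_eq_one.1 e))
    have h2 : (cj h E).relIndex D = 2 := by
      conv_lhs => rw [← hhD]
      unfold cj
      rw [relIndex_map_map_of_injective _ _ (MulAut.conj h).injective, hEidx]
    have h3 := relIndex_mul_relIndex _ _ _ hle hE'D
    rw [h2] at h3
    have h4 : E'.relIndex D = 2 :=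
      ((Nat.dvd_prime Nat.prime_two).1 ⟨_, h3.symm.trans (mul_comm _ _)⟩).resolve_left h1
    refine ⟨h4, le_antisymm hle (relIndex_eq_one.1 ?_)⟩
    rw [h4] at h3
    omega
  obtain ⟨hE'2, hhE⟩ := hE'idx
  haveI : Finite M := inferInstance
  by_cases hC : M ⊓ centralizer (E : Set G) ≤ E
  · -- the amalgam
    have hchar' : N ⊓ centralizer (E' : Set G) ≤ E' := by
      rintro x ⟨hx, hxc⟩
      rw [← hhE, mem_cj]
      refine hC ⟨mem_cj.1 (hhM ▸ hx), mem_centralizer_iff.2 fun e he => ?_⟩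
      have h1 := mem_centralizer_iff.1 hxc (h * e * h⁻¹) (hhE ▸ conj_mem_cj.2 he)
      calc e * (h⁻¹ * x * h) = h⁻¹ * (h * e * h⁻¹ * x) * h := by group
        _ = h⁻¹ * (x * (h * e * h⁻¹)) * h := by rw [h1]
        _ = h⁻¹ * x * h * e := by group
    have hDne : D ≠ ⊥ := fun e => hDn (by rw [e]; exact fun x _ => mem_normalizer_of_le (by simp))
    obtain ⟨z, hz, hz2, hz1, hzc⟩ := exists_central_invol hD2 hDne
    have hactM : ∃ m ∈ M, ∃ z ∈ D, z * z = 1 ∧ (∀ t ∈ D, t * z = z * t) ∧ m * z ≠ z * m := by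
      by_contra hcon
      push_neg at hcon
      have hN : N ≤ centralizer ({z} : Set G) := by
        rw [← hhM]
        intro x hx
        have hw : h⁻¹ * z * h ∈ D := mem_cj.1 (hhD.symm ▸ hz : z ∈ cj h D)
        have h2 := hcon _ (mem_cj.1 hx) _ hw
          (by rw [show h⁻¹ * z * h * (h⁻¹ * z * h) = h⁻¹ * (z * z) * h by group, hz2]; group)
          (fun t ht => by
            have h3 := hzc (h * t * h⁻¹) (hhD ▸ conj_mem_cj.2 ht)
            calc t * (h⁻¹ * z * h) = h⁻¹ * (h * t * h⁻¹ * z) * h := by group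
              _ = h⁻¹ * (z * (h * t * h⁻¹)) * h := by rw [h3]
              _ = h⁻¹ * z * h * t := by group)
        refine mem_centralizer_singleton_iff.2 ?_
        calc x * z = h * ((h⁻¹ * x * h) * (h⁻¹ * z * h)) * h⁻¹ := by group
          _ = h * ((h⁻¹ * z * h) * (h⁻¹ * x * h)) * h⁻¹ := by rw [h2]
          _ = z * x := by group
      have hsub : ∀ L : Subgroup G, L ≤ centralizer ({z} : Set G) → L ≤ normalizer (zpowers z : Set G) :=
        fun L hL => hL.trans (by rw [← centralizer_closure, ← zpowers_eq_closure]; exact centralizer_le_normalizer _)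
      have := hcore (zpowers z) (by simpa using hz)
        (hsub M fun m hm => mem_centralizer_singleton_iff.2 (hcon m hm z hz hz2 hzc)) (hsub N hN)
      exact hz1 (mem_bot.1 (this ▸ mem_zpowers z))
    let Dt : Data G :=
      { P := fun i => cond i M N, T := D, Q := fun i => cond i E E', q := 3, hq := Nat.prime_three
        hq2 := by norm_num
        fin := fun i => inferInstance, hinf := rfl, h2 := hD2
        hidx := by rintro (_ | _) <;> assumption
        hnn := by
          rintro (_ | _)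
          · intro e
            apply hDn
            have := cj_normalizer (show N ≤ normalizer (D : Set G) from e) h⁻¹
            rwa [← hhM, ← cj_mul, inv_mul_cancel, cj_one, ← hhD, ← cj_mul, inv_mul_cancel, cj_one] at this
          · exact hDn
        hQT := by rintro (_ | _) <;> assumption
        hQidx := by rintro (_ | _) <;> assumption
        hQn := by rintro (_ | _) <;> assumption
        hchar := by rintro (_ | _) <;> assumption
        act := by
          rintro (_ | _)
          · obtain ⟨m, hm, w, hw, w1, w2, w3⟩ := hactM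
            refine ⟨h * m * h⁻¹, hhM ▸ conj_mem_cj.2 hm, h * w * h⁻¹, hhD ▸ conj_mem_cj.2 hw, ?_,
              fun t ht => ?_, fun e => w3 ?_⟩
            · rw [show h * w * h⁻¹ * (h * w * h⁻¹) = h * (w * w) * h⁻¹ by group, w1]; group
            · have h4 := w2 _ (mem_cj.1 (hhD.symm ▸ ht : t ∈ cj h D))
              calc t * (h * w * h⁻¹) = h * (h⁻¹ * t * h * w) * h⁻¹ := by group
                _ = h * (w * (h⁻¹ * t * h)) * h⁻¹ := by rw [h4]
                _ = h * w * h⁻¹ * t := by group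
            · calc m * w = h⁻¹ * (h * m * h⁻¹ * (h * w * h⁻¹)) * h := by group
                _ = h⁻¹ * (h * w * h⁻¹ * (h * m * h⁻¹)) * h := by rw [e]
                _ = w * m := by group
          · exact hactM
        hcore := fun X hX hn => hcore X hX (hn true) (hn false) }
    refine ⟨?_, ?_⟩
    · rcases Dt.structure_iso.1 with hh | hh
      · exact Or.inr (Or.inr (Or.inr (Or.inl (hh true))))
      · exact Or.inr (Or.inr (Or.inr (Or.inr (hh true))))
    · rcases Dt.structure_iso.2 true with hh | hh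
      · exact ⟨3, by norm_num, hh⟩
      · exact ⟨4, by norm_num, hh⟩
  -- an element of order 3 centralising `E`
  obtain ⟨r, hr, hr3, hrD⟩ : ∃ r ∈ M ⊓ centralizer (E : Set G), r * r * r = 1 ∧ r ∉ D := by
    set C := M ⊓ centralizer (E : Set G) with hCdef
    have hCn : M ≤ normalizer (C : Set G) := fun m hm => mem_normalizer_of_le fun y hy =>
      mem_inf.2 ⟨mul_mem (mul_mem hm hy.1) (inv_mem hm), mem_centralizer_iff.2 fun e he => by
        have h1 : m⁻¹ * e * m⁻¹⁻¹ ∈ E := conj_mem_of_normalizer (hEn (inv_mem hm)) he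
        rw [inv_inv] at h1
        have h2 := mem_centralizer_iff.1 hy.2 _ h1
        calc e * (m * y * m⁻¹) = m * (m⁻¹ * e * m * y) * m⁻¹ := by group
          _ = m * (y * (m⁻¹ * e * m)) * m⁻¹ := by rw [h2]
          _ = m * y * m⁻¹ * e := by group⟩
    by_cases h3 : 3 ∣ Nat.card C
    · obtain ⟨r, hr⟩ := exists_prime_orderOf_dvd_card' 3 h3
      refine ⟨r, r.2, ?_, fun hrD => ?_⟩
      · have := pow_orderOf_eq_one r
        rw [hr] at this
        have e : (r : G) ^ 3 = 1 := by rw [← Subgroup.coe_pow, this, Subgroup.coe_one]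
        rwa [pow_three, ← mul_assoc] at e
      · obtain ⟨k, hk⟩ := hD2 ⟨r, hrD⟩
        have hk' : (r : G) ^ 2 ^ k = 1 := congrArg Subtype.val hk
        have h1 : orderOf r ∣ 2 ^ k := orderOf_dvd_of_pow_eq_one (Subtype.ext (by simpa using hk'))
        rw [hr] at h1
        exact absurd (Nat.prime_three.dvd_of_dvd_pow h1) (by norm_num)
    · exfalso
      have hC2 : IsPGroup 2 C := by
        have hd : Nat.card C ∣ 2 ^ n * 3 := by
          rw [← hn, mul_comm, ← hMcard]
          exact card_dvd_of_le inf_le_left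
        have hd' : Nat.card C ∣ 2 ^ n :=
          (Nat.Coprime.dvd_of_dvd_mul_right ((Nat.prime_three.coprime_iff_not_dvd).2 h3).symm hd)
        obtain ⟨k, -, hk⟩ := (Nat.dvd_prime_pow Nat.prime_two).1 hd'
        exact IsPGroup.of_card hk
      exact hC (le_one inf_le_left ((le_of_normal_two hDM hD2 h3M inf_le_left hCn hC2).trans hDN) hCn)
  -- `E` has order at most 2
  have hinf : E ⊓ E' = ⊥ := by
    have hmain : ∀ (L F : Subgroup G) (s : G), F ≤ L → L ≤ normalizer (F : Set G) → D ≤ L →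
        D.relIndex L = 3 → s ∈ L → s ∉ D → (∀ x ∈ F, x * s = s * x) → E ⊓ E' ≤ F →
        L ≤ normalizer ((E ⊓ E' : Subgroup G) : Set G) := by
      intro L F s _ _ hDL h3 hs hsD hsc hle
      have hDn' : D ≤ L ⊓ normalizer ((E ⊓ E' : Subgroup G) : Set G) := le_inf hDL fun d hd =>
        mem_normalizer_of_le fun x hx => ⟨conj_mem_of_normalizer (hEn (hDM hd)) hx.1,
          conj_mem_of_normalizer (hE'n (hDN hd)) hx.2⟩
      have h1 := relIndex_mul_relIndex _ _ _ hDn' inf_le_left
      rw [h3] at h1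
      rcases Nat.prime_three.eq_one_or_self_of_dvd _ (Dvd.intro _ h1) with h2 | h2
      · exact absurd (relIndex_eq_one.1 h2 ⟨hs, mem_normalizer_of_le fun x hx => by
          rw [← hsc x (hle hx), mul_inv_cancel_right]
          exact hx⟩) hsD
      · have h4 : (L ⊓ normalizer ((E ⊓ E' : Subgroup G) : Set G)).relIndex L = 1 := by
          rw [h2] at h1
          omega
        exact (relIndex_eq_one.1 h4).trans inf_le_right
    refine hcore _ ((inf_le_left).trans hED)
      (hmain M E r (hED.trans hDM) hEn hDM h3M hr.1 hrD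
        (fun x hx => mem_centralizer_iff.1 hr.2 x hx) inf_le_left)
      (hmain N E' (h * r * h⁻¹) (hE'D.trans hDN) hE'n hDN h3N (hhM ▸ conj_mem_cj.2 hr.1) ?_ ?_ inf_le_right)
    · exact fun e => hrD (conj_mem_cj.1 (hhD.symm ▸ e : h * r * h⁻¹ ∈ cj h D))
    · intro x hx
      have h1 := mem_centralizer_iff.1 hr.2 _ (mem_cj.1 (hhE.symm ▸ hx : x ∈ cj h E))
      calc x * (h * r * h⁻¹) = h * (h⁻¹ * x * h * r) * h⁻¹ := by group
        _ = h * (r * (h⁻¹ * x * h)) * h⁻¹ := by rw [h1]
        _ = h * r * h⁻¹ * x := by group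
  have hE2 : Nat.card E ≤ 2 := by
    have h1 : (E ⊓ E').relIndex E = Nat.card E := by
      rw [hinf, relIndex_bot_left]
    rw [inf_relIndex_left] at h1
    have h2 := relIndex_le_of_le_right (H := E') hED (by rw [hE'2]; norm_num)
    omega
  have hE0 : 0 < Nat.card E := Nat.card_pos
  rcases (show Nat.card E = 1 ∨ Nat.card E = 2 by omega) with hE1 | hE1
  · -- order 6
    have hinj : Function.Injective φ := by
      rw [← MonoidHom.ker_eq_bot_iff, hker, (card_eq_one.1 hE1 : E = ⊥)]
      simp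
    have hc : Nat.card M = 6 := by omega
    refine ⟨Or.inr (Or.inl ⟨MulEquiv.ofBijective φ ((Nat.bijective_iff_injective_and_card φ).2
      ⟨hinj, by rw [hc, Nat.card_perm, Nat.card_fin]; rfl⟩)⟩), 1, by norm_num, by rw [hc]; rfl⟩
  -- order 12
  have hc : Nat.card M = 12 := by omega
  refine ⟨Or.inr (Or.inr (Or.inl ?_)), 2, by norm_num, by rw [hc]; rfl⟩
  have hE'c : Nat.card E' = 2 := by rw [← hhE, card_cj, hE1]
  obtain ⟨e, he, he1⟩ : ∃ e ∈ E, e ≠ 1 := by
    by_contra hcon
    push_neg at hcon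
    rw [(eq_bot_iff_forall _).2 hcon, card_bot] at hE1
    omega
  obtain ⟨s, hs, hs1⟩ : ∃ s ∈ E', s ≠ 1 := by
    by_contra hcon
    push_neg at hcon
    rw [(eq_bot_iff_forall _).2 hcon, card_bot] at hE'c
    omega
  have hsq2 : ∀ (F : Subgroup G), Nat.card F = 2 → ∀ x ∈ F, x * x = 1 := fun F hF x hx => by
    have := pow_card_eq_one' (x := (⟨x, hx⟩ : F))
    rw [hF, pow_two] at this
    exact congrArg Subtype.val this
  have htwo : ∀ (F : Subgroup G), Nat.card F = 2 → ∀ x ∈ F, ∀ y ∈ F, x ≠ 1 → y ≠ 1 → x = y := by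
    intro F hF x hx y hy hx1 hy1
    obtain ⟨a, -, ha⟩ := (Nat.card_eq_two_iff' (1 : F)).1 hF
    exact congrArg Subtype.val ((ha ⟨x, hx⟩ fun h => hx1 (congrArg Subtype.val h)).trans
      (ha ⟨y, hy⟩ fun h => hy1 (congrArg Subtype.val h)).symm)
  have hsE : s ∉ E := fun h => hs1 (mem_bot.1 (hinf ▸ ⟨h, hs⟩))
  have hsD : s ∈ D := hE'D hs
  have hsM : s ∈ M := hDM hsD
  have heM : e ∈ M := hDM (hED he)
  have hecen : ∀ m ∈ M, m * e = e * m := by
    intro m hm
    have h1 := conj_mem_of_normalizer (hEn hm) he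
    have h2 : m * e * m⁻¹ = e := htwo E hE1 _ h1 _ he (fun h => he1 (by
      have h' := congrArg (fun x => m⁻¹ * x * m) h
      simpa [mul_assoc] using h')) he1
    calc m * e = m * e * m⁻¹ * m := by group
      _ = e * m := by rw [h2]
  have hrM : r ∈ M := hr.1
  have hrne : r ≠ 1 := fun h => hrD (h ▸ one_mem _)
  have hphi : ∀ a b : Equiv.Perm (Fin 3), a * a = 1 → a ≠ 1 → b * b * b = 1 → a * b * a⁻¹ * b = 1 := by
    decide
  have hmod : s * r * s⁻¹ * r ∈ E := by
    have hka : φ ⟨s, hsM⟩ ≠ 1 := fun h => hsE (by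
      have : (⟨s, hsM⟩ : M) ∈ φ.ker := h
      rwa [hker, mem_subgroupOf] at this)
    have := hphi (φ ⟨s, hsM⟩) (φ ⟨r, hrM⟩)
      (by rw [← map_mul, show (⟨s, hsM⟩ : M) * ⟨s, hsM⟩ = 1 from Subtype.ext (hsq2 E' hE'c s hs), map_one])
      hka
      (by rw [← map_mul, ← map_mul, show (⟨r, hrM⟩ : M) * ⟨r, hrM⟩ * ⟨r, hrM⟩ = 1 from Subtype.ext hr3,
        map_one])
    rw [← map_inv, ← map_mul, ← map_mul, ← map_mul] at this
    have h' : (⟨s, hsM⟩ * ⟨r, hrM⟩ * (⟨s, hsM⟩ : M)⁻¹ * ⟨r, hrM⟩) ∈ φ.ker := this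
    rwa [hker, mem_subgroupOf] at h'
  have hinv : s * r * s⁻¹ = r⁻¹ := by
    by_cases h1 : s * r * s⁻¹ * r = 1
    · exact eq_inv_of_mul_eq_one_left h1
    · exfalso
      have h2 := htwo E hE1 _ hmod _ he h1 he1
      have h3 : s * r * s⁻¹ = e * r⁻¹ := by rw [← h2]; group
      have hcom : Commute e r⁻¹ := (show Commute e r from (hecen r hrM).symm).inv_right
      have e3 : (s * r * s⁻¹) ^ 3 = 1 := by
        rw [conj_pow, show r ^ 3 = 1 by rw [pow_three, ← mul_assoc, hr3]]; group
      rw [h3, hcom.mul_pow, inv_pow, pow_three r, ← mul_assoc r r r, hr3, inv_one, mul_one, pow_three,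
        hsq2 E hE1 e he, mul_one] at e3
      exact he1 e3
  set x : M := ⟨r * e, mul_mem hrM heM⟩
  set y : M := ⟨s, hsM⟩
  have hxo : orderOf x = 6 := by
    have h1 : orderOf (⟨r, hrM⟩ : M) = 3 := orderOf_eq_prime (Subtype.ext (by
      show r ^ 3 = 1
      rw [pow_three, ← mul_assoc, hr3])) (fun h => hrne (congrArg Subtype.val h))
    have h2 : orderOf (⟨e, heM⟩ : M) = 2 := orderOf_eq_prime (Subtype.ext (by
      show e ^ 2 = 1
      rw [pow_two, hsq2 E hE1 e he])) (fun h => he1 (congrArg Subtype.val h))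
    have h3 : Commute (⟨r, hrM⟩ : M) ⟨e, heM⟩ := Subtype.ext (hecen r hrM)
    show orderOf ((⟨r, hrM⟩ : M) * ⟨e, heM⟩) = 6
    rw [h3.orderOf_mul_eq_mul_orderOf_of_coprime (by rw [h1, h2]; norm_num), h1, h2]
  refine PByCyclic.nonempty_dihedral (n := 6) (g := x) (s := y) (by rw [hc]) hxo ?_
    (Subtype.ext (hsq2 E' hE'c s hs)) (Subtype.ext ?_)
  · rintro ⟨k, hk⟩
    have hcm : y * x = x * y := by rw [← hk]; exact ((Commute.refl x).zpow_left k).eq
    have hcm' : s * (r * e) = r * e * s := congrArg Subtype.val hcm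
    have h4 : s * r * s⁻¹ = r := by
      calc s * r * s⁻¹ = s * (r * e) * e⁻¹ * s⁻¹ := by group
        _ = r * (e * s) * e⁻¹ * s⁻¹ := by rw [hcm']; group
        _ = r * (s * e) * e⁻¹ * s⁻¹ := by rw [hecen s hsM]
        _ = r := by group
    rw [hinv] at h4
    have : r = 1 := by
      calc r = r * r * r * (r⁻¹ * r⁻¹) := by group
        _ = r⁻¹ * r⁻¹ := by rw [hr3, one_mul]
        _ = r⁻¹ * r := by rw [h4]
        _ = 1 := inv_mul_cancel _
    exact hrne this
  · show s * (r * e) * s⁻¹ = (r * e)⁻¹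
    have e2 : e⁻¹ = e := inv_eq_of_mul_eq_one_left (hsq2 E hE1 e he)
    calc s * (r * e) * s⁻¹ = s * r * (e * s⁻¹) := by group
      _ = s * r * (s⁻¹ * e) := by rw [hecen _ (inv_mem hsM)]
      _ = r⁻¹ * e := by rw [← hinv]; group
      _ = (r * e)⁻¹ := by rw [mul_inv_rev, e2, hecen r⁻¹ (inv_mem hrM)]

/-- Sims' theorem on a suborbit of length 3. -/
theorem stabilizer_three {Ω : Type*} [MulAction G Ω] [FaithfulSMul G Ω] [Finite Ω]
    (hprim : MulAction.IsPreprimitive G Ω) (a b : Ω)
    (h3 : Nat.card (MulAction.orbit (MulAction.stabilizer G a) b) = 3) :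
    Five (MulAction.stabilizer G a) ∧
      ∃ k : ℕ, k ≤ 4 ∧ Nat.card (MulAction.stabilizer G a) = 2 ^ k * 3 := by
  classical
  obtain ⟨g, hg, hmax, hbot, hN, hne, hb⟩ := orbital hprim a b 3 h3 (by norm_num)
  set M := MulAction.stabilizer G a
  set N := MulAction.stabilizer G b
  have hrel : ∀ (A : Subgroup G) (c d : Ω), MulAction.stabilizer G d = A →
      ∀ B : Subgroup G, B = MulAction.stabilizer G c → Nat.card (MulAction.orbit B d) = 3 →
      (B ⊓ A).relIndex B = 3 := by
    intro A c d hA B hB hc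
    subst hA hB
    have h1 := card_orbit_mul (MulAction.stabilizer G c) d
    have h2 := Data.card_mul_relIndex (inf_le_left :
      MulAction.stabilizer G c ⊓ MulAction.stabilizer G d ≤ MulAction.stabilizer G c)
    rw [hc] at h1
    rw [← h1, mul_comm] at h2
    exact Nat.eq_of_mul_eq_mul_right Nat.card_pos h2
  have hsq : ∀ (A B : Subgroup G) (c d : Ω), A = MulAction.stabilizer G c → B = MulAction.stabilizer G d →
      Nat.card (MulAction.orbit A d) = 3 → ∀ x ∈ A ⊓ B, x * x ∈ one A B := by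
    intro A B c d hA hB hc x hx
    subst hA hB
    refine mem_one_of_fixes (mul_mem hx.1 hx.1) fun y hy => ?_
    have hxd : x • d = d := hx.2
    by_cases hyd : y = d
    · rw [hyd, mul_smul, hxd, hxd]
    by_cases h1 : x • y = y
    · rw [mul_smul, h1, h1]
    rw [mul_smul]
    by_contra h2
    have hy1 := smul_mem_orbit_of_mem hx.1 hy
    have hy2 := smul_mem_orbit_of_mem hx.1 hy1
    have hinj : ∀ p q : Ω, x • p = x • q → p = q := fun p q h => smul_left_cancel x h
    let f : Fin 4 → MulAction.orbit (MulAction.stabilizer G c) d :=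
      ![⟨d, MulAction.mem_orbit_self d⟩, ⟨y, hy⟩, ⟨x • y, hy1⟩, ⟨x • x • y, hy2⟩]
    have hf : Function.Injective f := by
      have k01 : d ≠ y := fun h => hyd h.symm
      have k02 : d ≠ x • y := fun h => k01 (hinj _ _ (hxd.trans h))
      have k03 : d ≠ x • x • y := fun h => k02 (hinj _ _ (hxd.trans h))
      have k12 : y ≠ x • y := fun h => h1 h.symm
      have k13 : y ≠ x • x • y := fun h => h2 h.symm
      have k23 : x • y ≠ x • x • y := fun h => k12 (hinj _ _ h)
      intro p q e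
      have e' := congrArg Subtype.val e
      fin_cases p <;> fin_cases q <;>
        first
        | rfl
        | exact (k01 e').elim
        | exact (k02 e').elim
        | exact (k03 e').elim
        | exact (k12 e').elim
        | exact (k13 e').elim
        | exact (k23 e').elim
        | exact (k01 e'.symm).elim
        | exact (k02 e'.symm).elim
        | exact (k03 e'.symm).elim
        | exact (k12 e'.symm).elim
        | exact (k13 e'.symm).elim
        | exact (k23 e'.symm).elim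
    have := Nat.card_le_card_of_injective f hf
    rw [Nat.card_fin, hc] at this
    omega
  have hS : ∀ h ∈ M, ∀ x ∈ MulAction.orbit M b, h • x ∈ MulAction.orbit M b :=
    fun h hh x hx => smul_mem_orbit_of_mem hh hx
  haveI : Fintype (MulAction.orbit M b) := Fintype.ofFinite _
  let e3 : MulAction.orbit M b ≃ Fin 3 :=
    Fintype.equivFinOfCardEq (by rw [← Nat.card_eq_fintype_card, h3])
  refine pair g hN.symm (fun X hX hXM hXN => ?_) (hrel N a b rfl M rfl h3)
    (by rw [inf_comm]; exact hrel M b a rfl N rfl hb)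
    (hsq M N a b rfl rfl h3) (fun x hx => hsq N M b a rfl rfl hb x (inf_comm M N ▸ hx))
    ⟨(e3.permCongrHom.toMonoidHom).comp (permHom M _ hS), ?_⟩
  · haveI : X.Normal := normalizer_eq_top_iff.1 (by
      rcases hmax.le_iff.1 hXM with h | h
      · exact h
      · exfalso
        have hNM : N ≤ M := h ▸ hXN
        exact hne (Subgroup.eq_of_le_of_card_ge hNM
          (le_of_eq (by rw [hN]; exact (card_map_of_injective (MulAut.conj g).injective).symm))).symm)
    exact le_bot_iff.1 (hbot ▸ normal_le_normalCore.2 (hX.trans inf_le_left))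
  · ext m
    constructor
    · intro hm
      have hm' : m ∈ (permHom M _ hS).ker := e3.permCongrHom.injective (by simpa [MonoidHom.mem_ker] using hm)
      exact mem_one_of_fixes m.2 fun y hy => fixes_of_mem_ker hm' hy
    · intro hm
      have hall : ∀ y : MulAction.orbit M b, (m : G) • (y : Ω) = y := by
        rintro ⟨_, u, rfl⟩
        have h4 := (mem_core.1 (mem_subgroupOf.1 hm)).2 _ (inv_mem u.2)
        rw [inv_inv] at h4
        have h5 : ((u : G)⁻¹ * m * u) • b = b := h4.2
        rw [mul_smul, mul_smul, inv_smul_eq_iff] at h5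
        exact h5
      have : permHom M _ hS m = 1 := Equiv.ext fun y => Subtype.ext (hall y)
      simp [MonoidHom.mem_ker, this]

end CfsgLib.CubicAmalgam
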